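import Cfsg.Agent.Lib.Blocks.M24.Check
import Cfsg.Agent.Lib.Compute.Mathieu.Groups
import Cfsg.Agent.Lib.Fusion.Mathieu.FusM24
import Mathlib

/-!
# Conjugacy facts on the Mathieu group on 24 points from the certificates
-/

set_option autoImplicit false

namespace Cfsg.Agent.Lib.Blocks.M24

open Cfsg.Agent.Lib.Compute Cfsg.Agent.Lib.Compute.Mathieu
open Cfsg.Agent.Lib.Fusion (memCode memCode_iff)

attribute [local irreducible] mulP packP actP chainCheck pairCheck sift transList commList elems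
  Tree.find

/-- The certified group. -/
noncomputable abbrev m24G : Subgroup (Equiv.Perm Cfsg.GolayPt) := genGroup ptCoding m24Gens

theorem card_m24G : Nat.card m24G = 244823040 :=
  (card_genGroup ptCoding gensOK_m24 m24Chain_ok).trans m24Chain_size

/-- The code of an element. -/
noncomputable def gEnc (g : m24G) : ℕ := ptCoding.enc (g : Equiv.Perm Cfsg.GolayPt)

theorem gEnc_mul (g h : m24G) : gEnc (g * h) = mulP 8 24 (gEnc g) (gEnc h) := by
  show _ = (permOps 8 24).mul (gEnc g) (gEnc h)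
  unfold gEnc
  rw [Subgroup.coe_mul, ← ptCoding.mul_enc]

theorem gEnc_one : gEnc 1 = O24.one := ptCoding.one_enc

theorem gEnc_inj : Function.Injective gEnc := fun _ _ h => Subtype.ext (ptCoding.inj h)

theorem gEnc_pow (x : m24G) : ∀ k, gEnc (x ^ k) = codePow (gEnc x) k
  | 0 => by rw [pow_zero, gEnc_one, codePow]
  | k + 1 => by rw [pow_succ', gEnc_mul, gEnc_pow x k, codePow]

theorem g_lift {p : ℕ × ℕ} (h : pairCheck 8 24 m24Chain p = true) :
    ∃ g : m24G, gEnc g = p.1 ∧ gEnc g⁻¹ = p.2 := by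
  obtain ⟨hok, hle⟩ := gensOK_of_pairCheck ptEquiv (by decide) gensOK_m24 m24Chain_ok
    (T := [p]) (by simp [h])
  obtain ⟨g, -, h1, h2⟩ := hok p (List.mem_singleton_self p)
  exact ⟨⟨g, hle (mem_genGroup_of_enc _ (List.mem_singleton_self p) h1)⟩, h1, h2⟩

theorem g_mem_transList {x y g : m24G} (h : g * x = y * g) :
    gEnc g ∈ transList O24 (gEnc x) (gEnc y) m24Chain O24.one [] :=
  enc_mem_transList_top ptCoding gensOK_m24 m24Chain_ok (congrArg Subtype.val h) g.2

theorem gens_ok_of_check {T : List (ℕ × ℕ)} (h : T.all (pairCheck 8 24 m24Chain) = true) :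
    GensOK ptCoding T ∧ genGroup ptCoding T ≤ m24G :=
  gensOK_of_pairCheck ptEquiv (by decide) gensOK_m24 m24Chain_ok h

theorem act_pt (g : Equiv.Perm Cfsg.GolayPt) (p : Cfsg.GolayPt) :
    O24.act (ptCoding.enc g) (ptEquiv p) = ptEquiv (g p) :=
  permCoding_act 8 ptEquiv (by decide) g p

/-- The centralizer of an element with a certificate. -/
theorem commute_iff_mem {p : ℕ × ℕ} {CG : List (ℕ × ℕ)} {CL : List Lvl}
    (h : centCheck p CG CL = true) {z g : m24G} (hz : gEnc z = p.1) :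
    g * z = z * g ↔ (g : Equiv.Perm Cfsg.GolayPt) ∈ genGroup ptCoding CG := by
  simp only [centCheck, Bool.and_eq_true, Bool.not_eq_true'] at h
  obtain ⟨⟨⟨⟨⟨hp, hch⟩, hcomm⟩, hmv⟩, hfirst⟩, htl⟩ := h
  obtain ⟨hok, hle⟩ := gens_ok_of_check (T := CG)
    (List.all_eq_true.2 fun a ha => List.all_eq_true.1 hp a (List.mem_cons_of_mem _ ha))
  constructor
  · intro hg
    cases hCL : CL with
    | nil => simp [hCL] at hfirst
    | cons l ls =>
      subst hCL
      simp only [Bool.and_eq_true, List.all_eq_true, List.mem_range, Bool.or_eq_true] at hfirst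
      obtain ⟨hb, horb⟩ := hfirst
      have hb := Nat.eq_of_beq_eq_true hb
      set σ : Equiv.Perm Cfsg.GolayPt := (g : Equiv.Perm Cfsg.GolayPt) with hσ
      set τ : Equiv.Perm Cfsg.GolayPt := (z : Equiv.Perm Cfsg.GolayPt) with hτ
      have hστ : σ * τ = τ * σ := congrArg Subtype.val hg
      have hzenc : ptCoding.enc τ = p.1 := hz
      set a : Cfsg.GolayPt := ptEquiv.symm 23
      have ha : ((ptEquiv a : Fin 24) : ℕ) = 23 := by simp [a]
      have hza : τ a ≠ a := by
        intro he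
        have := act_pt τ a
        rw [he, hzenc, ha] at this
        simp [this] at hmv
      have hzga : τ (σ a) ≠ σ a := by
        intro he
        apply hza
        have := Equiv.ext_iff.1 hστ a
        simp only [Equiv.Perm.mul_apply] at this
        exact σ.injective (by rw [this, he])
      have hy := horb (ptEquiv (σ a)) (ptEquiv (σ a)).isLt
      rcases hy with hy | hy
      · exfalso
        have hy := Nat.eq_of_beq_eq_true hy
        rw [← hzenc, act_pt] at hy
        exact hzga (ptEquiv.injective (Fin.ext hy))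
      obtain ⟨e, he⟩ := Option.isSome_iff_exists.1 hy
      obtain ⟨hem, hex⟩ := Tree.find_some he
      obtain ⟨hent, hact⟩ := (chainCheck_cons ptCoding hok hch).1 e hem
      obtain ⟨k, hk, hk1, -⟩ := hent
      simp only at hk1
      have hka : k a = σ a := by
        apply ptEquiv.injective
        apply Fin.ext
        rw [← act_pt, hk1, ha, ← hb, hact, hex]
      have hkz : k * τ = τ * k := by
        clear hka hact hk1
        induction hk using Subgroup.closure_induction with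
        | mem x hx =>
          obtain ⟨q, hq, hxq⟩ := hx
          apply ptCoding.inj
          rw [← ptCoding.mul_enc, ← ptCoding.mul_enc, hxq, hzenc]
          exact Nat.eq_of_beq_eq_true (List.all_eq_true.1 hcomm q hq)
        | one => rw [one_mul, mul_one]
        | mul x y _ _ hx hy => exact (show Commute (x * y) τ from Commute.mul_left hx hy).eq
        | inv x _ hx => exact (show Commute x⁻¹ τ from Commute.inv_left hx).eq
      have hkG : k ∈ m24G := hle hk
      set r : Equiv.Perm Cfsg.GolayPt := k⁻¹ * σ with hr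
      have hrz : r * τ = τ * r := ((show Commute k τ from hkz).inv_left.mul_left hστ).eq
      have hra : r a = a := by
        rw [hr, Equiv.Perm.mul_apply, ← hka]
        simp
      obtain ⟨l', hl'⟩ : ∃ l', m24Chain = l' :: m24Chain.drop 1 :=
        ⟨_, (List.cons_head_tail (l := m24Chain) (by simp [m24Chain])).symm.trans (by
          rw [List.drop_one])⟩
      have hb' : l'.b = 23 := by
        have := hl'
        simp only [m24Chain, List.cons.injEq] at this
        rw [← this.1]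
      have hch' : chainCheck O24 m24Gens (l' :: m24Chain.drop 1) = true := hl' ▸ m24Chain_ok
      have hr1 : r ∈ genGroup ptCoding l'.T :=
        (genGroup_next_eq ptCoding gensOK_m24 hch').2 ⟨mul_mem (inv_mem hkG) g.2, by
          rw [hb', ← ha, act_pt, hra]⟩
      have hmem := enc_mem_transList ptCoding (x := τ) (y := τ) hrz
        (gensOK_next ptCoding gensOK_m24 hch')
        (chainCheck_cons ptCoding gensOK_m24 hch').2.2.2.2.2 1 [23] (by simpa using hr1) (by
          intro q hq w hw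
          rw [List.mem_singleton] at hq
          subst hq
          rw [← hb']
          exact act_next ptCoding gensOK_m24 hch' hw)
      rw [ptCoding.one_enc, hzenc] at hmem
      have hs := List.all_eq_true.1 htl _ hmem
      rw [forceNat_eq] at hs
      have := mul_mem hk (good_of_sift ptCoding hok hch hs)
      rwa [hr, mul_inv_cancel_left] at this
  · intro hg
    apply Subtype.ext
    show (g : Equiv.Perm Cfsg.GolayPt) * z = z * g
    generalize (g : Equiv.Perm Cfsg.GolayPt) = σ at hg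
    induction hg using Subgroup.closure_induction with
    | mem x hx =>
      obtain ⟨q, hq, hxq⟩ := hx
      apply ptCoding.inj
      rw [← ptCoding.mul_enc, ← ptCoding.mul_enc, hxq, show ptCoding.enc _ = p.1 from hz]
      exact Nat.eq_of_beq_eq_true (List.all_eq_true.1 hcomm q hq)
    | one => rw [one_mul, mul_one]
    | mul x y _ _ hx hy => exact (show Commute (x * y) _ from Commute.mul_left hx hy).eq
    | inv x _ hx => exact (show Commute x⁻¹ _ from Commute.inv_left hx).eq

/-- The centralizer of a certified involution has a self-centralizing normal `2`-subgroup. -/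
theorem exists_core {p : ℕ × ℕ} {CG : List (ℕ × ℕ)} {CL : List Lvl} {QG QE : List (ℕ × ℕ)}
    (h : centCheck p CG CL = true) (h' : coreCheck CG CL QG QE = true) {z : m24G}
    (hz : gEnc z = p.1) :
    ∃ Q : Subgroup (Subgroup.centralizer (Subgroup.zpowers z : Set m24G)), Q.Normal ∧
      IsPGroup 2 Q ∧ Subgroup.centralizer (Q : Set _) ≤ Q := by
  classical
  set C := Subgroup.centralizer (Subgroup.zpowers z : Set m24G) with hC
  have hCiff : ∀ g : m24G, g ∈ C ↔ g * z = z * g := fun g => by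
    rw [hC, Subgroup.mem_centralizer_iff]
    refine ⟨fun hh => (hh z (Subgroup.mem_zpowers z)).symm, fun hh w hw => ?_⟩
    obtain ⟨i, rfl⟩ := Subgroup.mem_zpowers_iff.1 hw
    exact ((show Commute g z from hh).symm.zpow_left i).eq
  have hCK : ∀ c : C, ((c : m24G) : Equiv.Perm Cfsg.GolayPt) ∈ genGroup ptCoding CG := fun c =>
    (commute_iff_mem h hz).1 ((hCiff _).1 c.2)
  have hC1 := h
  simp only [centCheck, Bool.and_eq_true] at hC1
  obtain ⟨⟨⟨⟨⟨hp, hch⟩, -⟩, -⟩, -⟩, -⟩ := hC1
  obtain ⟨hok, hle⟩ := gens_ok_of_check (T := CG)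
    (List.all_eq_true.2 fun a ha => List.all_eq_true.1 hp a (List.mem_cons_of_mem _ ha))
  simp only [coreCheck, Bool.and_eq_true, List.all_eq_true, forceNat_eq, memCode_iff] at h'
  obtain ⟨⟨⟨⟨⟨⟨hQp, hone⟩, hmul⟩, hnorm⟩, hord⟩, hgens⟩, hcent⟩ := h'
  obtain ⟨hQok, hQle⟩ := gensOK_of_pairCheck ptEquiv (by decide) hok hch
    (List.all_eq_true.2 hQp)
  have hlift : ∀ q ∈ QE, ∃ c : C, gEnc (c : m24G) = q.1 := by
    intro q hq
    obtain ⟨σ, -, h1, -⟩ := hQok q hq
    have hσ : σ ∈ genGroup ptCoding CG := hQle (mem_genGroup_of_enc _ hq h1)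
    exact ⟨⟨⟨σ, hle hσ⟩, (hCiff _).2 ((commute_iff_mem h hz).2 hσ)⟩, h1⟩
  let Qm : Submonoid C :=
    { carrier := {c | gEnc (c : m24G) ∈ QE.map Prod.fst}
      one_mem' := by
        show gEnc ((1 : C) : m24G) ∈ QE.map Prod.fst
        rw [OneMemClass.coe_one, gEnc_one]; exact hone
      mul_mem' := fun {a b} ha hb => by
        obtain ⟨a', ha', hae⟩ := List.mem_map.1 ha
        obtain ⟨b', hb', hbe⟩ := List.mem_map.1 hb
        show gEnc ((a : m24G) * b) ∈ QE.map Prod.fst
        rw [gEnc_mul, ← hae, ← hbe]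
        exact hmul a' ha' b' hb' }
  let Q : Subgroup C :=
    { Qm with
      inv_mem' := fun {a} ha => by
        have h : a ^ (orderOf a - 1) ∈ Qm := Qm.pow_mem ha _
        rwa [show a ^ (orderOf a - 1) = a⁻¹ from eq_inv_of_mul_eq_one_left (by
          rw [← pow_succ, Nat.sub_add_cancel (orderOf_pos a), pow_orderOf_eq_one])] at h }
  have hQmem : ∀ c : C, c ∈ Q ↔ gEnc (c : m24G) ∈ QE.map Prod.fst := fun c => Iff.rfl
  refine ⟨Q, ⟨fun q hq c => ?_⟩, fun q => ?_, fun c hc => ?_⟩
  · -- normality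
    have key : ∀ σ ∈ genGroup ptCoding CG, ∀ x : C, x ∈ Q →
        ptCoding.enc (σ * ((x : m24G) : Equiv.Perm Cfsg.GolayPt) * σ⁻¹) ∈ QE.map Prod.fst := by
      intro σ hσ
      rw [genGroup, ← Subgroup.mem_toSubmonoid, Subgroup.closure_toSubmonoid_of_finite] at hσ
      induction hσ using Submonoid.closure_induction with
      | mem σ hσ =>
        obtain ⟨a, ha, hσa⟩ := hσ
        intro x hx
        obtain ⟨b, hb, hbe⟩ := List.mem_map.1 ((hQmem x).1 hx)
        obtain ⟨τ, -, t1, t2⟩ := hok a ha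
        have hστ : σ = τ := ptCoding.inj (hσa.trans t1.symm)
        have := hnorm a ha b hb
        rw [hbe] at this
        rw [hστ, ← ptCoding.mul_enc, ← ptCoding.mul_enc, t1, t2]
        exact this
      | one =>
        intro x hx
        rw [one_mul, inv_one, mul_one]
        exact (hQmem x).1 hx
      | mul σ₁ σ₂ _ _ h₁ h₂ =>
        intro x hx
        obtain ⟨b, hb, hbe⟩ := List.mem_map.1 (h₂ x hx)
        obtain ⟨y, hy⟩ := hlift b hb
        have hyQ : y ∈ Q := (hQmem y).2 (by rw [hy]; exact List.mem_map_of_mem hb)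
        have hye : ((y : m24G) : Equiv.Perm Cfsg.GolayPt) =
            σ₂ * ((x : m24G) : Equiv.Perm Cfsg.GolayPt) * σ₂⁻¹ := ptCoding.inj (hy.trans hbe)
        have := h₁ y hyQ
        rwa [hye, show σ₁ * (σ₂ * ((x : m24G) : Equiv.Perm Cfsg.GolayPt) * σ₂⁻¹) * σ₁⁻¹ =
          σ₁ * σ₂ * ((x : m24G) : Equiv.Perm Cfsg.GolayPt) * (σ₁ * σ₂)⁻¹ by group] at this
    exact key _ (hCK c) q hq
  · obtain ⟨b, hb, hbe⟩ := List.mem_map.1 ((hQmem q.1).1 q.2)
    refine ⟨3, Subtype.ext (Subtype.ext (gEnc_inj ?_))⟩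
    have h8 : ((q : C) : m24G) ^ 2 ^ 3 =
        (((q : C) : m24G) * q * ((q : C) * q)) * (((q : C) : m24G) * q * ((q : C) * q)) := by
      simp [pow_succ, mul_assoc]
    rw [Subgroup.coe_pow, Subgroup.coe_pow, h8, gEnc_mul, gEnc_mul, gEnc_mul, ← hbe,
      OneMemClass.coe_one, OneMemClass.coe_one, gEnc_one]
    exact Nat.eq_of_beq_eq_true (hord b hb)
  · refine (hQmem c).2 (hcent _ ?_)
    rw [← ptCoding.one_enc]
    refine enc_mem_commList ptCoding (g := ((c : m24G) : Equiv.Perm Cfsg.GolayPt)) (fun x hx => ?_)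
      hok hch 1 [] (by simpa using hCK c) (by simp)
    obtain ⟨a, ha, rfl⟩ := List.mem_map.1 hx
    obtain ⟨b, hb, hbe⟩ := List.mem_map.1 (hgens a ha)
    obtain ⟨y, hy⟩ := hlift b hb
    refine ⟨_, hy.trans hbe, ?_⟩
    have := Subgroup.mem_centralizer_iff.1 hc y ((hQmem y).2 (by
      rw [hy]; exact List.mem_map_of_mem hb))
    exact (congrArg (fun w : C => ((w : m24G) : Equiv.Perm Cfsg.GolayPt)) this).symm

theorem involution_aux {p : ℕ × ℕ} (h : pairCheck 8 24 m24Chain p = true)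
    (h1 : Nat.beq (mulP 8 24 p.1 p.1) O24.one = true) (h2 : Nat.beq p.1 O24.one = false) :
    ∃ z : m24G, gEnc z = p.1 ∧ orderOf z = 2 := by
  obtain ⟨z, hz, -⟩ := g_lift h
  refine ⟨z, hz, orderOf_eq_prime (gEnc_inj ?_) fun he => ?_⟩
  · rw [pow_two, gEnc_mul, hz, gEnc_one]; exact Nat.eq_of_beq_eq_true h1
  · rw [← hz, he, gEnc_one] at h2
    simp at h2

theorem exists_sylow_elem (x : m24G) (hx : orderOf x = 2) :
    ∃ y : m24G, gEnc y ∈ elems O24 Fusion.Mathieu.m24SylChain ∧ IsConj x y := by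
  classical
  have : Fact (Nat.Prime 2) := ⟨Nat.prime_two⟩
  have hs := Fusion.Mathieu.m24Sylow_ok
  simp only [Fusion.sylowCheck, Bool.and_eq_true] at hs
  obtain ⟨⟨⟨⟨⟨⟨⟨⟨hPS, hLP⟩, hsz⟩, -⟩, -⟩, -⟩, -⟩, -⟩, -⟩ := hs
  obtain ⟨hok, hle⟩ := gens_ok_of_check hPS
  set P := genGroup ptCoding Fusion.Mathieu.m24Fus.PS with hPdef
  have hfac : (244823040 : ℕ).factorization 2 = 10 := by
    rw [show (244823040 : ℕ) = 2 ^ 10 * 239085 by norm_num,
      Nat.factorization_mul (by norm_num) (by norm_num),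
      Nat.Prime.factorization_pow Nat.prime_two]
    simp [Nat.factorization_eq_zero_of_not_dvd (by norm_num : ¬ 2 ∣ 239085)]
  have hsize : Nat.card (P.subgroupOf m24G) = 2 ^ (Nat.card m24G).factorization 2 := by
    rw [Nat.card_congr (Subgroup.subgroupOfEquivOfLe hle).toEquiv, hPdef,
      card_genGroup ptCoding hok hLP, Nat.eq_of_beq_eq_true hsz, card_m24G, hfac]
    rfl
  let S₀ : Sylow 2 m24G := Sylow.ofCard (P.subgroupOf m24G) hsize
  have hp : IsPGroup 2 (Subgroup.zpowers x) :=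
    IsPGroup.of_card (n := 1) (by rw [Nat.card_zpowers, hx, pow_one])
  obtain ⟨S, hS⟩ := hp.exists_le_sylow
  obtain ⟨c, hc⟩ := MulAction.exists_smul_eq m24G S S₀
  refine ⟨c * x * c⁻¹, ?_, isConj_iff.2 ⟨c, rfl⟩⟩
  have hmem : c * x * c⁻¹ ∈ (S₀ : Subgroup m24G) := by
    rw [← hc, Sylow.coe_subgroup_smul]
    exact ⟨x, hS (Subgroup.mem_zpowers x), by simp⟩
  exact enc_mem_elems ptCoding hok hLP hmem

/-- There are two classes of involutions, with `2`-constrained centralizers. -/
theorem m24_involutions : ∃ za zb : m24G, orderOf za = 2 ∧ orderOf zb = 2 ∧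
    (∀ x : m24G, orderOf x = 2 → IsConj x za ∨ IsConj x zb) ∧
    (∃ Q : Subgroup (Subgroup.centralizer (Subgroup.zpowers za : Set m24G)), Q.Normal ∧
      IsPGroup 2 Q ∧ Subgroup.centralizer (Q : Set _) ≤ Q) ∧
    ∃ Q : Subgroup (Subgroup.centralizer (Subgroup.zpowers zb : Set m24G)), Q.Normal ∧
      IsPGroup 2 Q ∧ Subgroup.centralizer (Q : Set _) ≤ Q := by
  classical
  have hA := invA_cent
  have hB := invB_cent
  have ho := inv_order
  simp only [centCheck, Bool.and_eq_true, List.all_eq_true] at hA hB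
  simp only [Bool.and_eq_true, Bool.not_eq_true'] at ho
  obtain ⟨⟨⟨a1, a2⟩, b1⟩, b2⟩ := ho
  obtain ⟨za, hza, hzao⟩ := involution_aux (hA.1.1.1.1.1 invA List.mem_cons_self) a1 a2
  obtain ⟨zb, hzb, hzbo⟩ := involution_aux (hB.1.1.1.1.1 invB List.mem_cons_self) b1 b2
  refine ⟨za, zb, hzao, hzbo, fun x hx => ?_, exists_core invA_cent invA_core hza,
    exists_core invB_cent invB_core hzb⟩
  obtain ⟨y, hy, hxy⟩ := exists_sylow_elem x hx
  have h := List.all_eq_true.1 inv_fused _ hy
  rw [forceNat_eq] at h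
  simp only [Bool.or_eq_true, Bool.not_eq_true', List.any_eq_true] at h
  obtain ⟨c, hc⟩ := isConj_iff.1 hxy
  rcases h with ((h | h) | ⟨g, hg, h⟩) | ⟨g, hg, h⟩
  · exfalso
    have hy1 : y = 1 := gEnc_inj ((Nat.eq_of_beq_eq_true h).trans gEnc_one.symm)
    rw [hy1, mul_inv_eq_one, mul_eq_left] at hc
    rw [hc, orderOf_one] at hx
    exact absurd hx (by norm_num)
  · exfalso
    have hxx : x * x = 1 := by rw [← pow_two, ← hx, pow_orderOf_eq_one]
    have hyy : y * y = 1 := by rw [← hc, conj_mul, hxx, mul_one, mul_inv_cancel]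
    have h2 := congrArg gEnc hyy
    rw [gEnc_mul, gEnc_one] at h2
    rw [h2] at h
    simp at h
  · obtain ⟨k, hk, -⟩ := g_lift (List.all_eq_true.1 inv_pairs g (List.mem_append_left _ hg))
    refine Or.inl (hxy.trans (isConj_iff.2 ⟨k, mul_inv_eq_iff_eq_mul.2 (gEnc_inj ?_)⟩).symm)
    rw [gEnc_mul, gEnc_mul, hk, hza]
    exact Nat.eq_of_beq_eq_true h
  · obtain ⟨k, hk, -⟩ := g_lift (List.all_eq_true.1 inv_pairs g (List.mem_append_right _ hg))
    refine Or.inr (hxy.trans (isConj_iff.2 ⟨k, mul_inv_eq_iff_eq_mul.2 (gEnc_inj ?_)⟩).symm)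
    rw [gEnc_mul, gEnc_mul, hk, hzb]
    exact Nat.eq_of_beq_eq_true h

/-- A certified element: its order, conjugacy to its square and centralizer order. -/
theorem exists_element {p t : ℕ × ℕ} {CG : List (ℕ × ℕ)} {CL : List Lvl} {q n : ℕ} (hq : q.Prime)
    (h : elCheck p t CG CL q n = true) :
    ∃ x : m24G, gEnc x = p.1 ∧ gEnc x⁻¹ = p.2 ∧ orderOf x = q ∧ IsConj x (x ^ 2) ∧
      Nat.card (Subgroup.centralizer ({x} : Set m24G)) = n := by
  classical
  simp only [elCheck, Bool.and_eq_true, Bool.not_eq_true', Nat.ble_eq] at h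
  obtain ⟨⟨⟨⟨⟨⟨⟨hp, hch⟩, hsz⟩, hcomm⟩, h1⟩, h2⟩, h3⟩, h4⟩ := h
  have hp' := List.all_eq_true.1 hp
  obtain ⟨x, hx, hx'⟩ := g_lift (hp' p List.mem_cons_self)
  obtain ⟨g, hg, -⟩ := g_lift (hp' t (by simp))
  have : Fact q.Prime := ⟨hq⟩
  refine ⟨x, hx, hx', orderOf_eq_prime (gEnc_inj ?_) (fun he => ?_), ?_, le_antisymm ?_ ?_⟩
  · rw [gEnc_pow, hx, gEnc_one]; exact Nat.eq_of_beq_eq_true h1
  · rw [← hx, he, gEnc_one] at h2
    simp at h2
  · refine isConj_iff.2 ⟨g, mul_inv_eq_iff_eq_mul.2 (gEnc_inj ?_)⟩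
    rw [pow_two, gEnc_mul, gEnc_mul, gEnc_mul, hg, hx]
    exact Nat.eq_of_beq_eq_true h3
  · obtain ⟨L, hL⟩ : ∃ L, L = transList O24 p.1 p.1 m24Chain O24.one [] := ⟨_, rfl⟩
    rw [← hL] at h4
    let f : Subgroup.centralizer ({x} : Set m24G) → L.toFinset := fun c =>
      ⟨gEnc (c : m24G), by
        rw [List.mem_toFinset, hL, ← hx]
        exact g_mem_transList (Subgroup.mem_centralizer_singleton_iff.1 c.2)⟩
    have hf : Function.Injective f := fun a b hab => by
      have h := congrArg Subtype.val hab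
      simp only [f] at h
      exact Subtype.ext (gEnc_inj h)
    refine (Nat.card_le_card_of_injective f hf).trans ?_
    rw [Nat.card_eq_fintype_card, Fintype.card_coe]
    exact (L.toFinset_card_le).trans h4
  · obtain ⟨hok, hle⟩ := gens_ok_of_check (T := CG)
      (List.all_eq_true.2 fun a ha => hp' a (by simp [ha]))
    rw [← Nat.eq_of_beq_eq_true hsz, ← card_genGroup ptCoding hok hch]
    have hmem : ∀ σ ∈ genGroup ptCoding CG,
        σ * (x : Equiv.Perm Cfsg.GolayPt) = (x : Equiv.Perm Cfsg.GolayPt) * σ := by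
      intro σ hσ
      induction hσ using Subgroup.closure_induction with
      | mem y hy =>
        obtain ⟨a, ha, hya⟩ := hy
        apply ptCoding.inj
        rw [← ptCoding.mul_enc, ← ptCoding.mul_enc, hya, show ptCoding.enc _ = p.1 from hx]
        exact Nat.eq_of_beq_eq_true (List.all_eq_true.1 hcomm a ha)
      | one => rw [one_mul, mul_one]
      | mul a b _ _ ha hb => exact (show Commute (a * b) _ from Commute.mul_left ha hb).eq
      | inv a _ ha => exact (show Commute a⁻¹ _ from Commute.inv_left ha).eq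
    refine Nat.card_le_card_of_injective (fun σ : genGroup ptCoding CG =>
      (⟨⟨σ, hle σ.2⟩, Subgroup.mem_centralizer_singleton_iff.2 (Subtype.ext (hmem σ σ.2))⟩ :
        Subgroup.centralizer ({x} : Set m24G))) fun a b hab => ?_
    exact Subtype.ext (congrArg (fun w : Subgroup.centralizer ({x} : Set m24G) =>
      ((w : m24G) : Equiv.Perm Cfsg.GolayPt)) hab)

theorem not_conj_inv {x : m24G} {p : ℕ × ℕ} (hx : gEnc x = p.1) (hx' : gEnc x⁻¹ = p.2)
    (h : (transList O24 p.1 p.2 m24Chain O24.one []).isEmpty = true) : ¬ IsConj x x⁻¹ := by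
  intro hc
  obtain ⟨g, hg⟩ := isConj_iff.1 hc
  have hm := g_mem_transList (show g * x = x⁻¹ * g from mul_inv_eq_iff_eq_mul.1 hg)
  rw [hx, hx', List.isEmpty_iff.1 h] at hm
  exact absurd hm (List.not_mem_nil)

theorem m24_el5 : ∃ x : m24G, orderOf x = 5 ∧ IsConj x (x ^ 2) ∧
    Nat.card (Subgroup.centralizer ({x} : Set m24G)) = 60 := by
  obtain ⟨x, -, -, h⟩ := exists_element (by norm_num) el5_ok
  exact ⟨x, h⟩

theorem m24_el7 : ∃ x : m24G, orderOf x = 7 ∧ IsConj x (x ^ 2) ∧ ¬ IsConj x x⁻¹ ∧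
    Nat.card (Subgroup.centralizer ({x} : Set m24G)) = 42 := by
  obtain ⟨x, h1, h2, h3, h4, h5⟩ := exists_element (by norm_num) el7_ok
  exact ⟨x, h3, h4, not_conj_inv h1 h2 el7_inv, h5⟩

theorem m24_el11 : ∃ x : m24G, orderOf x = 11 ∧ IsConj x (x ^ 2) ∧
    Nat.card (Subgroup.centralizer ({x} : Set m24G)) = 11 := by
  obtain ⟨x, -, -, h⟩ := exists_element (by norm_num) el11_ok
  exact ⟨x, h⟩

theorem m24_el23 : ∃ x : m24G, orderOf x = 23 ∧ IsConj x (x ^ 2) ∧ ¬ IsConj x x⁻¹ ∧
    Nat.card (Subgroup.centralizer ({x} : Set m24G)) = 23 := by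
  obtain ⟨x, h1, h2, h3, h4, h5⟩ := exists_element (by norm_num) el23_ok
  exact ⟨x, h3, h4, not_conj_inv h1 h2 el23_inv, h5⟩

end Cfsg.Agent.Lib.Blocks.M24
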