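import Cfsg.Agent.Lib.Blocks.M22Degrees

/-!
# No degree of a group with the class data of M24 is divisible by 1024
-/

set_option autoImplicit false

namespace Cfsg.Agent.Lib.Blocks.M24

open Cfsg Cfsg.Agent.Lib.Chars
open scoped ComplexConjugate

universe u

variable {G : Type u} [Group G] [Finite G]

theorem apply_eq_of_isConj {φ : G → ℂ} (hφ : IsClassFunction G φ) {u v : G} (h : IsConj u v) :
    φ u = φ v := by
  obtain ⟨c, rfl⟩ := isConj_iff.1 h
  exact (hφ u c).symm

/-- The iterated squares of an element conjugate to its square. -/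
theorem apply_two_pow {φ : G → ℂ} (hφ : IsClassFunction G φ) {x : G} {q : ℕ} (hx : x ^ q = 1)
    (hc : IsConj x (x ^ 2)) (i : ℕ) : φ (x ^ (2 ^ i % q)) = φ x := by
  have h : IsConj x (x ^ 2 ^ i) := by
    induction i with
    | zero => rw [pow_zero, pow_one]
    | succ i ih =>
      have h' := ih.pow 2
      rw [← pow_mul, ← pow_succ] at h'
      exact hc.trans h'
  rw [← pow_eq_pow_mod _ hx]
  exact (apply_eq_of_isConj hφ h).symm

/-- The value at an element all whose non-trivial powers are conjugate. -/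
theorem prime_value (χ : IrrCharacter G) {d : ℕ} (hd : (χ : G → ℂ) 1 = d) (x : G) (q : ℕ)
    (hx : orderOf x = q) (hq : 1 < q)
    (hsum : ∀ φ : G → ℂ, IsClassFunction G φ →
      ∑ j ∈ Finset.range q, φ (x ^ j) = φ 1 + ((q - 1 : ℕ) : ℂ) * φ x) :
    ∃ a : ℤ, (χ : G → ℂ) x = a ∧ (q : ℤ) ∣ (d : ℤ) + ((q - 1 : ℕ) : ℤ) * a := by
  obtain ⟨m, hm⟩ := M22.exists_sum_pow_eq x (irr_isCharacter χ)
  rw [hx, hsum _ (irr_isClassFunction χ), hd] at hm
  have hk : ((q - 1 : ℕ) : ℂ) ≠ 0 := Nat.cast_ne_zero.mpr (by omega)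
  obtain ⟨a, ha⟩ := exists_int_eq_of_isIntegral (irr_isIntegral χ x)
    (((q : ℚ) * m - d) / ((q - 1 : ℕ) : ℚ)) (by
      push_cast
      rw [eq_div_iff hk]
      linear_combination hm)
  refine ⟨a, ha, m, ?_⟩
  rw [ha] at hm
  exact_mod_cast hm

theorem card_class [Fintype G] (x : G) {n : ℕ}
    (hc : Nat.card (Subgroup.centralizer ({x} : Set G)) = n) :
    (M22.classFinset x).card * n = Nat.card G ∧
      (Subgroup.centralizer ({x} : Set G)).index = (M22.classFinset x).card := by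
  have h2 : (M22.classFinset x).card = (Subgroup.centralizer ({x} : Set G)).index := by
    rw [← Blocks.natCard_isConj, ← Nat.card_eq_finsetCard]
    exact Nat.card_congr (Equiv.subtypeEquivRight fun y => M22.mem_classFinset)
  refine ⟨?_, h2.symm⟩
  rw [h2, ← hc, mul_comm]
  exact Subgroup.card_mul_index _

/-- A degree divides the class size times an integral value. -/
theorem dvd_index_mul (χ : IrrCharacter G) {d : ℕ} (hd0 : d ≠ 0) (hd : (χ : G → ℂ) 1 = d) (x : G)
    {a : ℤ} (ha : (χ : G → ℂ) x = a) :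
    (d : ℤ) ∣ ((Subgroup.centralizer ({x} : Set G)).index : ℤ) * a := by
  have hint := Blocks.centralChar_isIntegral χ x
  rw [Cfsg.centralChar, ha, hd] at hint
  obtain ⟨m, hm⟩ := exists_int_eq_of_isIntegral hint
    (((Subgroup.centralizer ({x} : Set G)).index : ℚ) * a / d) (by push_cast; ring)
  refine ⟨m, ?_⟩
  rw [div_eq_iff (Nat.cast_ne_zero.mpr hd0)] at hm
  have : (((Subgroup.centralizer ({x} : Set G)).index : ℤ) * a : ℂ) = (((d : ℤ) * m : ℤ) : ℂ) := by
    push_cast
    rw [hm, mul_comm]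
  exact_mod_cast this

/-- The squared degree divides the squared class size times an integral norm. -/
theorem sq_dvd_index_mul (χ : IrrCharacter G) {d : ℕ} (hd0 : d ≠ 0) (hd : (χ : G → ℂ) 1 = d)
    (x : G) {N : ℤ} (hN : Complex.normSq ((χ : G → ℂ) x) = N) :
    (d : ℤ) ^ 2 ∣ ((Subgroup.centralizer ({x} : Set G)).index : ℤ) ^ 2 * N := by
  have hint := (Blocks.centralChar_isIntegral χ x).mul
    (isIntegral_conj (Blocks.centralChar_isIntegral χ x))
  have hval : centralChar (χ : G → ℂ) x * conj (centralChar (χ : G → ℂ) x) =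
      ((((Subgroup.centralizer ({x} : Set G)).index : ℤ) ^ 2 * N : ℤ) : ℂ) / ((d : ℂ) ^ 2) := by
    rw [Cfsg.centralChar, hd, map_div₀, map_mul, Complex.conj_natCast, Complex.conj_natCast,
      div_mul_div_comm, mul_mul_mul_comm, Complex.mul_conj, hN]
    push_cast
    ring
  rw [hval] at hint
  obtain ⟨m, hm⟩ := exists_int_eq_of_isIntegral hint
    (((((Subgroup.centralizer ({x} : Set G)).index : ℤ) ^ 2 * N : ℤ) : ℚ) / (d : ℚ) ^ 2)
    (by push_cast; ring)
  refine ⟨m, ?_⟩
  rw [div_eq_iff (pow_ne_zero _ (Nat.cast_ne_zero.mpr hd0))] at hm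
  have : ((((Subgroup.centralizer ({x} : Set G)).index : ℤ) ^ 2 * N : ℤ) : ℂ) =
      (((d : ℤ) ^ 2 * m : ℤ) : ℂ) := by
    rw [hm]
    push_cast
    ring
  exact_mod_cast this

theorem sq_bound {a : ℤ} {m : ℕ} (h : a ≤ -(m : ℤ) ∨ (m : ℤ) ≤ a) : ((m * m : ℕ) : ℤ) ≤ a ^ 2 := by
  push_cast
  rcases h with h | h <;> nlinarith

theorem four_dvd {N : ℤ} (h : (1048576 : ℤ) ∣ 33978639974400 * N) : (4 : ℤ) ∣ N := by
  have e1 : (1048576 : ℤ) = 262144 * 4 := by norm_num
  have e2 : (33978639974400 : ℤ) = 262144 * 129618225 := by norm_num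
  rw [e1, e2, mul_assoc] at h
  have h2 : (4 : ℤ) ∣ 129618225 * N := Int.dvd_of_mul_dvd_mul_left (by norm_num) h
  exact Int.dvd_of_dvd_mul_right_of_gcd_one h2 (by norm_num)

set_option maxHeartbeats 1000000 in
/-- The arithmetic. -/
theorem not_dvd_degree (hcard : Nat.card G = 244823040)
    (h5 : ∃ x : G, orderOf x = 5 ∧ IsConj x (x ^ 2) ∧
      Nat.card (Subgroup.centralizer ({x} : Set G)) = 60)
    (h7 : ∃ x : G, orderOf x = 7 ∧ IsConj x (x ^ 2) ∧ ¬ IsConj x x⁻¹ ∧
      Nat.card (Subgroup.centralizer ({x} : Set G)) = 42)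
    (h11 : ∃ x : G, orderOf x = 11 ∧ IsConj x (x ^ 2) ∧
      Nat.card (Subgroup.centralizer ({x} : Set G)) = 11)
    (h23 : ∃ x : G, orderOf x = 23 ∧ IsConj x (x ^ 2) ∧ ¬ IsConj x x⁻¹ ∧
      Nat.card (Subgroup.centralizer ({x} : Set G)) = 23)
    (χ : IrrCharacter G) : ¬ 1024 ∣ Cfsg.charDegree (χ : G → ℂ) := by
  classical
  cases nonempty_fintype G
  intro hdiv
  obtain ⟨d, hd0, hd, hdvd⟩ := irr_degree_dvd_card χ
  have hdeg : Cfsg.charDegree (χ : G → ℂ) = d := by simp [Cfsg.charDegree, hd]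
  have hd' : d ≠ 0 := by
    intro e; exact irr_apply_one_ne_zero χ (by rw [hd, e, Nat.cast_zero])
  rw [hdeg] at hdiv
  rw [hcard] at hdvd
  obtain ⟨x5, o5, c5, z5⟩ := h5
  obtain ⟨x7, o7, c7, n7, z7⟩ := h7
  obtain ⟨x11, o11, c11, z11⟩ := h11
  obtain ⟨x23, o23, c23, n23, z23⟩ := h23
  have inv_cent : ∀ x : G, Subgroup.centralizer ({x⁻¹} : Set G) = Subgroup.centralizer {x} := by
    intro x
    ext g
    rw [Subgroup.mem_centralizer_singleton_iff, Subgroup.mem_centralizer_singleton_iff]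
    exact ⟨fun h => by simpa using (show Commute g x⁻¹ from h).inv_right.eq,
      fun h => (show Commute g x from h).inv_right.eq⟩
  obtain ⟨k5, i5⟩ := card_class x5 z5
  obtain ⟨k7, i7⟩ := card_class x7 z7
  obtain ⟨k7', -⟩ := card_class x7⁻¹ (n := 42) (by rw [inv_cent]; exact z7)
  obtain ⟨k11, -⟩ := card_class x11 z11
  obtain ⟨k23, -⟩ := card_class x23 z23
  obtain ⟨k23', -⟩ := card_class x23⁻¹ (n := 23) (by rw [inv_cent]; exact z23)
  rw [hcard] at k5 k7 k7' k11 k23 k23'
  have p5 : x5 ^ 5 = 1 := o5 ▸ pow_orderOf_eq_one x5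
  have p7 : x7 ^ 7 = 1 := o7 ▸ pow_orderOf_eq_one x7
  have p11 : x11 ^ 11 = 1 := o11 ▸ pow_orderOf_eq_one x11
  have p23 : x23 ^ 23 = 1 := o23 ▸ pow_orderOf_eq_one x23
  obtain ⟨a, ha, da⟩ := prime_value χ hd x5 5 o5 (by norm_num) (fun φ hφ => by
    have f := apply_two_pow hφ p5 c5
    have f2 := f 1; have f4 := f 2; have f3 := f 3
    norm_num at f2 f4 f3
    simp only [Finset.sum_range_succ, Finset.sum_range_zero, pow_zero, pow_one, f2, f3, f4]
    push_cast
    ring)
  obtain ⟨b, hb, db⟩ := prime_value χ hd x11 11 o11 (by norm_num) (fun φ hφ => by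
    have f := apply_two_pow hφ p11 c11
    have f2 := f 1; have f4 := f 2; have f8 := f 3; have f5 := f 4; have f10 := f 5
    have f9 := f 6; have f7 := f 7; have f3 := f 8; have f6 := f 9
    norm_num at f2 f4 f8 f5 f10 f9 f7 f3 f6
    simp only [Finset.sum_range_succ, Finset.sum_range_zero, pow_zero, pow_one, f2, f3, f4, f5, f6,
      f7, f8, f9, f10]
    push_cast
    ring)
  have hinvpow : ∀ (x : G) (q i : ℕ), x ^ q = 1 → i ≤ q → x⁻¹ ^ i = x ^ (q - i) := fun x q i h hi => by
    rw [inv_pow, inv_eq_of_mul_eq_one_right (a := x ^ i) (b := x ^ (q - i))]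
    rw [← pow_add, Nat.add_sub_cancel' hi, h]
  have conj_inv : ∀ x : G, IsConj x (x ^ 2) → IsConj x⁻¹ (x⁻¹ ^ 2) := fun x h => by
    obtain ⟨c, hc⟩ := isConj_iff.1 h
    exact isConj_iff.2 ⟨c, by rw [inv_pow, ← hc]; group⟩
  obtain ⟨s, N, -, hN, -, dN, hsN⟩ := M22.half_value χ hd x7 7 o7 3 (by norm_num) (fun φ hφ => by
    have f := apply_two_pow hφ p7 c7
    have g := apply_two_pow hφ (show x7⁻¹ ^ 7 = 1 by rw [inv_pow, p7, inv_one]) (conj_inv x7 c7)
    have f2 := f 1; have f4 := f 2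
    have g6 := g 0; have g5 := g 1; have g3 := g 2
    norm_num at f2 f4
    rw [hinvpow x7 7 _ p7 (Nat.mod_lt _ (by norm_num)).le] at g6 g5 g3
    norm_num at g6 g5 g3
    simp only [Finset.sum_range_succ, Finset.sum_range_zero, pow_zero, pow_one, f2, f4, g3, g5, g6]
    push_cast
    ring)
  obtain ⟨s', N', -, hN', -, dN', hsN'⟩ := M22.half_value χ hd x23 23 o23 11 (by norm_num)
    (fun φ hφ => by
    have f := apply_two_pow hφ p23 c23
    have g := apply_two_pow hφ (show x23⁻¹ ^ 23 = 1 by rw [inv_pow, p23, inv_one])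
      (conj_inv x23 c23)
    have f2 := f 1; have f4 := f 2; have f8 := f 3; have f16 := f 4; have f9 := f 5
    have f18 := f 6; have f13 := f 7; have f3 := f 8; have f6 := f 9; have f12 := f 10
    have g1 := g 0; have g2 := g 1; have g4 := g 2; have g8 := g 3; have g16 := g 4
    have g9 := g 5; have g18 := g 6; have g13 := g 7; have g3 := g 8; have g6 := g 9
    have g12 := g 10
    norm_num at f2 f4 f8 f16 f9 f18 f13 f3 f6 f12
    rw [hinvpow x23 23 _ p23 (Nat.mod_lt _ (by norm_num)).le] at g1 g2 g4 g8 g16 g9 g18 g13 g3 g6 g12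
    norm_num at g1 g2 g4 g8 g16 g9 g18 g13 g3 g6 g12
    simp only [Finset.sum_range_succ, Finset.sum_range_zero, pow_zero, pow_one, f2, f4, f8, f16, f9,
      f18, f13, f3, f6, f12, g1, g2, g4, g8, g16, g9, g18, g13, g3, g6, g12]
    push_cast
    ring)
  have da4 := dvd_index_mul χ hd' hd x5 ha
  have dN4 := sq_dvd_index_mul χ hd' hd x7 hN
  -- the square sum
  have hnot : ∀ {u v : G}, orderOf u ≠ orderOf v →
      Disjoint (M22.classFinset u) (M22.classFinset v) := by
    intro u v huv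
    rw [Finset.disjoint_left]
    intro y hu hv
    exact huv ((M22.orderOf_eq_of_mem hu).symm.trans (M22.orderOf_eq_of_mem hv))
  have hnotinv : ∀ {u : G}, ¬ IsConj u u⁻¹ →
      Disjoint (M22.classFinset u) (M22.classFinset u⁻¹) := by
    intro u hu
    rw [Finset.disjoint_left]
    intro y h1 h2
    exact hu ((M22.mem_classFinset.1 h1).trans (M22.mem_classFinset.1 h2).symm)
  set T : Finset G := {1} ∪ M22.classFinset x5 ∪ (M22.classFinset x7 ∪ M22.classFinset x7⁻¹) ∪
    M22.classFinset x11 ∪ (M22.classFinset x23 ∪ M22.classFinset x23⁻¹) with hT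
  have h1mem : ∀ x : G, orderOf x ≠ 1 → (1 : G) ∉ M22.classFinset x := fun x hx hm =>
    hx ((M22.orderOf_eq_of_mem hm).symm.trans orderOf_one)
  have hdisjT : ∀ f : G → ℂ, ∑ y ∈ T, f y = f 1 + ∑ y ∈ M22.classFinset x5, f y +
      (∑ y ∈ M22.classFinset x7, f y + ∑ y ∈ M22.classFinset x7⁻¹, f y) +
      ∑ y ∈ M22.classFinset x11, f y +
      (∑ y ∈ M22.classFinset x23, f y + ∑ y ∈ M22.classFinset x23⁻¹, f y) := by
    intro f
    rw [hT, Finset.sum_union, Finset.sum_union, Finset.sum_union, Finset.sum_union,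
      Finset.sum_union, Finset.sum_union, Finset.sum_singleton]
    all_goals try simp only [Finset.disjoint_union_left, Finset.disjoint_union_right,
      Finset.disjoint_singleton_left]
    all_goals refine ?_
    all_goals repeat' apply And.intro
    all_goals first
      | exact hnotinv n23
      | exact hnotinv n7
      | (apply h1mem; (try simp only [orderOf_inv]); omega)
      | (apply hnot; (try simp only [orderOf_inv]); omega)
  have hcl : ∀ x y : G, y ∈ M22.classFinset x → (χ : G → ℂ) y = (χ : G → ℂ) x := fun x y h =>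
    (apply_eq_of_isConj (irr_isClassFunction χ) (M22.mem_classFinset.1 h)).symm
  have hconst : ∀ (x : G) (F : ℂ → ℂ), ∑ y ∈ M22.classFinset x, F ((χ : G → ℂ) y)
      = ((M22.classFinset x).card : ℂ) * F ((χ : G → ℂ) x) := fun x F => by
    rw [Finset.sum_congr rfl fun y hy => by rw [hcl x y hy], Finset.sum_const, nsmul_eq_mul]
  have e5 : (M22.classFinset x5).card = 4080384 := by omega
  have e7 : (M22.classFinset x7).card = 5829120 := by omega
  have e7' : (M22.classFinset x7⁻¹).card = 5829120 := by omega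
  have e11 : (M22.classFinset x11).card = 22256640 := by omega
  have e23 : (M22.classFinset x23).card = 10644480 := by omega
  have e23' : (M22.classFinset x23⁻¹).card = 10644480 := by omega
  have hnorm : ∑ g : G, Complex.normSq ((χ : G → ℂ) g) = (244823040 : ℝ) := by
    apply Complex.ofReal_injective
    have h := classInner_irr_self χ
    rw [classInner, inv_mul_eq_one₀ natCard_ne_zero, hcard] at h
    rw [Complex.ofReal_sum, Finset.sum_congr rfl fun g _ => (Complex.mul_conj ((χ : G → ℂ) g)).symm,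
      ← h]
    norm_num
  have hsymN : ∀ x : G, Complex.normSq ((χ : G → ℂ) x⁻¹) = Complex.normSq ((χ : G → ℂ) x) :=
    fun x => by rw [irr_inv, Complex.normSq_conj]
  have hTsum : ∑ y ∈ T, Complex.normSq ((χ : G → ℂ) y) =
      (((d : ℤ) ^ 2 + 4080384 * a ^ 2 + 11658240 * N + 22256640 * b ^ 2 + 21288960 * N' : ℤ) : ℝ) := by
    apply Complex.ofReal_injective
    rw [Complex.ofReal_sum, hdisjT fun y => ((Complex.normSq ((χ : G → ℂ) y) : ℝ) : ℂ)]
    simp only [hconst _ fun z => ((Complex.normSq z : ℝ) : ℂ)]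
    rw [hd, ha, hb, hsymN, hsymN, hN, hN', e5, e7, e7', e11, e23, e23', Complex.normSq_natCast,
      Complex.normSq_intCast, Complex.normSq_intCast]
    push_cast
    ring
  have hle := Finset.sum_le_sum_of_subset_of_nonneg (Finset.subset_univ T)
    (fun g _ _ => Complex.normSq_nonneg ((χ : G → ℂ) g))
  rw [hTsum, hnorm] at hle
  have hle' : (d : ℤ) ^ 2 + 4080384 * a ^ 2 + 11658240 * N + 22256640 * b ^ 2 + 21288960 * N'
      ≤ 244823040 := by exact_mod_cast hle
  have ha2 : 0 ≤ a ^ 2 := sq_nonneg a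
  have hb2 : 0 ≤ b ^ 2 := sq_nonneg b
  have hNn : 0 ≤ N := by nlinarith [sq_nonneg s]
  have hNn' : 0 ≤ N' := by nlinarith [sq_nonneg s']
  rw [i5, e5] at da4
  rw [i7, e7] at dN4
  obtain ⟨k, rfl⟩ := hdiv
  have hk : k ≤ 15 := by
    by_contra hk
    have : (16384 : ℤ) ≤ ((1024 * k : ℕ) : ℤ) := by omega
    nlinarith
  push_cast at da4 dN4
  have ha4 : (4 : ℤ) ∣ a := by
    have h1 := dvd_trans (dvd_mul_right (1024 : ℤ) (k : ℤ)) da4
    omega
  have hN4 : (4 : ℤ) ∣ N := by
    rw [mul_pow] at dN4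
    have h1 := dvd_trans (dvd_mul_right ((1024 : ℤ) ^ 2) ((k : ℤ) ^ 2)) dN4
    norm_num at h1
    exact four_dvd h1
  -- drop facts with large coefficients
  clear dN4
  interval_cases k
  all_goals first
    | omega
    | (exfalso; revert hdvd; norm_num; done)
    | skip
  all_goals push_cast at hle' da db dN dN'
  · have := sq_bound (a := a) (m := 4) (by omega)
    have := sq_bound (a := b) (m := 1) (by omega)
    omega

end Cfsg.Agent.Lib.Blocks.M24
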