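import Cfsg.Agent.Lib.Blocks.OneBlockLocal
import Cfsg.Agent.Lib.Blocks.PrincipalSection
import Cfsg.Agent.Lib.Blocks.InducedBlock
import Cfsg.Agent.Lib.Blocks.M24.Degrees
import Cfsg.Agent.Lib.Blocks.M24.Classes

/-!
# The certified M24 has a single 2-block
-/

set_option autoImplicit false

namespace Cfsg.Agent.Lib.Blocks.M24

open Cfsg MonoidAlgebra Cfsg.Agent.Lib.Compute.Mathieu

universe u

variable {G : Type u} [Group G] [Finite G] {p : ℕ} [Fact p.Prime] {M : Ideal AlgInt} [M.IsPrime]

set_option maxHeartbeats 400000 in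
/-- If every element of order `p` is conjugate to an element whose centralizer has one block and
no block has defect zero, the group has one block. -/
theorem sameBlock_of_centralizer_elements (hM : IsPModular p M)
    (hfuse : ∀ x : G, orderOf x = p → ∃ z : G, IsConj x z ∧
      ∀ ξ η : IrrCharacter (Subgroup.centralizer (Subgroup.zpowers z : Set G)),
        SameBlock M (ξ : Subgroup.centralizer (Subgroup.zpowers z : Set G) → ℂ)
          (η : Subgroup.centralizer (Subgroup.zpowers z : Set G) → ℂ))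
    (hdef : ∀ B : Set (IrrCharacter G), IsPBlock M B → blockDefect p B ≠ 0)
    (χ ψ : IrrCharacter G) : SameBlock M (χ : G → ℂ) (ψ : G → ℂ) := by
  classical
  cases nonempty_fintype G
  suffices key : ∀ (θ : IrrCharacter G) (g : G),
      omegaBar M θ (classSumR M g) = omegaBar M (Chars.trivialIrr G) (classSumR M g) by
    intro g
    rw [← omegaBar_eq_iff_of_classSum, key χ, key ψ]
  intro θ g
  have hB := isPBlock_blockOf (M := M) θ
  obtain ⟨D, hD⟩ := exists_isDefectGroup (p := p) hB
  have hne : D ≠ ⊥ := fun h => hdef _ hB ((blockDefect_eq_zero_iff hM hB hD).2 h)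
  obtain ⟨y, hy, hyD⟩ := isDefectGroup_iff.1 hD
  obtain ⟨x, hx⟩ : ∃ x : D, orderOf x = p := by
    have : Nontrivial D := (Subgroup.nontrivial_iff_ne_bot D).mpr hne
    obtain ⟨k, hk⟩ := IsPGroup.iff_card.1 (isPGroup_of_isDefectGroup hD)
    refine exists_prime_orderOf_dvd_card' p ?_
    rw [hk]
    refine dvd_pow_self p fun h0 => ?_
    rw [h0, pow_zero] at hk
    exact (Finite.one_lt_card (α := D)).ne' hk
  obtain ⟨z, hxz, hone⟩ := hfuse x (by rw [Subgroup.orderOf_coe]; exact hx)
  obtain ⟨c, hc⟩ := isConj_iff.1 hxz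
  have hgx : y * (x : G) = x * y :=
    (Subgroup.mem_centralizer_iff.1 (le_centralizer_singleton_iff.1 hyD.2.1) x x.2).symm
  set P := Subgroup.zpowers z with hP
  have hzp : orderOf z = p := by
    rw [← hc, ← MulAut.conj_apply, MulEquiv.orderOf_eq, Subgroup.orderOf_coe, hx]
  have hPp : IsPGroup p P := IsPGroup.of_card (n := 1) (by rw [hP, Nat.card_zpowers, hzp, pow_one])
  set H := Subgroup.centralizer (P : Set G) with hH
  have hHN : H ≤ Subgroup.normalizer (P : Set G) := Subgroup.centralizer_le_normalizer _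
  have hPH : P ≤ H := by
    rw [hP, Subgroup.zpowers_le, hH, Subgroup.mem_centralizer_iff]
    intro w hw
    obtain ⟨i, rfl⟩ := Subgroup.mem_zpowers_iff.1 hw
    exact ((Commute.refl z).zpow_left i).eq
  obtain ⟨ξ, hξ⟩ : ∃ ξ : IrrCharacter H, brPhi hM hPp le_rfl hHN ξ = omegaBar M θ := by
    refine exists_brPhi_eq hM hPp le_rfl hHN hB (g := c * y * c⁻¹) ?_
      (by rw [blockCoeff_conj]; exact hy.2.1) (mem_blockOf_self θ)
    rw [Subgroup.mem_centralizer_iff]
    intro w hw
    obtain ⟨i, rfl⟩ := Subgroup.mem_zpowers_iff.1 hw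
    rw [← hc]
    have : Commute (c * (x : G) * c⁻¹) (c * y * c⁻¹) := by
      show _ * _ = _ * _
      calc c * (x : G) * c⁻¹ * (c * y * c⁻¹) = c * ((x : G) * y) * c⁻¹ := by group
        _ = c * (y * x) * c⁻¹ := by rw [hgx]
        _ = c * y * c⁻¹ * (c * (x : G) * c⁻¹) := by group
    exact (this.zpow_left i).eq
  have hbH : IsPBlock M (principalBlock M H) := isPBlock_blockOf (Chars.trivialIrr H)
  have hBG : IsPBlock M (principalBlock M G) := isPBlock_blockOf (Chars.trivialIrr G)
  have hind : IsInducedBlock M H (principalBlock M H) (principalBlock M G) :=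
    (HeightZero.third_main hM H (HeightZero.regOrth_holds hM) (HeightZero.regOrth_holds hM) _
      (inducedBlockDefined hM hPp hPH le_rfl hHN hbH)).2 rfl
  have hmH : Chars.trivialIrr H ∈ principalBlock M H := mem_blockOf_self (Chars.trivialIrr H)
  have hmG : Chars.trivialIrr G ∈ principalBlock M G := mem_blockOf_self (Chars.trivialIrr G)
  have hmem := (isInducedBlock_iff_brauer hM hPp hPH le_rfl hHN hbH hBG).1 hind
    (Chars.trivialIrr H) hmH (Chars.trivialIrr G) hmG g
  have h1 := (memLocalIdeal_brauer_sub_iff hM hPp le_rfl hHN (Chars.trivialIrr H)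
    (Chars.trivialIrr G) g).1 hmem
  rw [← hξ, ← h1, brPhi_apply, brPhi_apply,
    omegaBar_eq_of_sameBlock (hone ξ (Chars.trivialIrr H))]

/-- The certified `M₂₄` has a single `2`-block. -/
theorem sameBlock (K : Subgroup (Equiv.Perm Cfsg.GolayPt)) (hK : K = m24G) (M : Ideal AlgInt)
    (hM : IsPModular 2 M) (χ ψ : IrrCharacter K) : SameBlock M (χ : K → ℂ) (ψ : K → ℂ) := by
  subst hK
  haveI : Fact (Nat.Prime 2) := ⟨Nat.prime_two⟩
  haveI := hM.2.1.isPrime
  obtain ⟨za, zb, -, -, hfuse, ⟨Qa, a1, a2, a3⟩, ⟨Qb, b1, b2, b3⟩⟩ := m24_involutions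
  refine sameBlock_of_centralizer_elements hM (fun x hx => ?_) (fun B hB h0 => ?_) χ ψ
  · rcases hfuse x hx with h | h
    · exact ⟨za, h, fun ξ η => sameBlock_of_centralizer_le hM Qa a2 a3 ξ η⟩
    · exact ⟨zb, h, fun ξ η => sameBlock_of_centralizer_le hM Qb b2 b3 ξ η⟩
  · obtain ⟨θ, hθ⟩ := isPBlock_nonempty hB
    refine not_dvd_degree card_m24G m24_el5 m24_el7 m24_el11 m24_el23 θ ?_
    have h10 : (Nat.card m24G).factorization 2 = 10 := by
      rw [card_m24G, show (244823040 : ℕ) = 2 ^ 10 * 239085 by norm_num,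
        Nat.factorization_mul (by norm_num) (by norm_num),
        Nat.Prime.factorization_pow Nat.prime_two]
      simp [Nat.factorization_eq_zero_of_not_dvd (by norm_num : ¬ 2 ∣ 239085)]
    have hle : sInf ((fun χ : IrrCharacter m24G =>
        (charDegree (χ : m24G → ℂ)).factorization 2) '' B)
        ≤ (charDegree (θ : m24G → ℂ)).factorization 2 := Nat.sInf_le ⟨θ, hθ, rfl⟩
    rw [blockDefect, h10] at h0
    have h : 10 ≤ (charDegree (θ : m24G → ℂ)).factorization 2 := by omega
    exact (pow_dvd_pow 2 h).trans (Nat.ordProj_dvd _ 2)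

end Cfsg.Agent.Lib.Blocks.M24
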