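import Cfsg.Agent.Lib.Compute.Transporter

/-!
# Pruned enumeration of the common centralizer of several elements
-/

set_option autoImplicit false

namespace Cfsg.Agent.Lib.Blocks.M24

open Cfsg.Agent.Lib.Compute

/-- Codes of the candidates commuting with all of `xs`. -/
noncomputable def commList (O : Ops) (xs : List ℕ) : List Lvl → ℕ → List ℕ → List ℕ
  | [], v, _ => if xs.all (fun x => Nat.beq (O.mul v x) (O.mul x v)) then [v] else []
  | l :: ls, v, dec =>
    (l.orb.toList.map fun e => forceNat (O.mul v e.v) fun v' =>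
      if xs.all (fun x => respects O x x v' (l.b :: dec)) then commList O xs ls v' (l.b :: dec)
      else []).flatten

variable {G : Type*} [Group G] [Finite G] {O : Ops} (C : Coding G O)

/-- The enumeration is complete. -/
theorem enc_mem_commList {xs : List ℕ} {g : G}
    (hg : ∀ c ∈ xs, ∃ x : G, C.enc x = c ∧ g * x = x * g) :
    ∀ {L : List Lvl} {S : List (ℕ × ℕ)}, GensOK C S → chainCheck O S L = true →
      ∀ (v : G) (dec : List ℕ), v⁻¹ * g ∈ genGroup C S →
        (∀ p ∈ dec, ∀ k ∈ genGroup C S, O.act (C.enc k) p = p) →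
        C.enc g ∈ commList O xs L (C.enc v) dec := by
  intro L
  induction L with
  | nil =>
    intro S hS h v dec hv _
    have hc := card_genGroup C hS h
    rw [chainSize, Subgroup.card_eq_one] at hc
    rw [hc, Subgroup.mem_bot, inv_mul_eq_one] at hv
    subst hv
    rw [commList, if_pos]
    · exact List.mem_singleton_self _
    · refine List.all_eq_true.2 fun c hc => ?_
      obtain ⟨x, rfl, hx⟩ := hg c hc
      rw [C.mul_enc, C.mul_enc, hx]
      simp
  | cons l ls ih =>
    intro S hS h v dec hv hdec
    obtain ⟨e, he, t, ht, -, hmem⟩ := exists_entry C hS h hv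
    have hmem' : (v * t)⁻¹ * g ∈ genGroup C l.T := by simpa [mul_assoc] using hmem
    have hdec' : ∀ p ∈ l.b :: dec, ∀ k ∈ genGroup C l.T, O.act (C.enc k) p = p := by
      intro p hp k hk
      rcases List.mem_cons.1 hp with rfl | hp
      · exact act_next C hS h hk
      · exact hdec p hp k (genGroup_next_le C hS h hk)
    have hact : ∀ p ∈ l.b :: dec, O.act (C.enc (v * t)) p = O.act (C.enc g) p := by
      intro p hp
      have h2 : O.act (C.enc g) p = O.act (C.enc (v * t)) (O.act (C.enc ((v * t)⁻¹ * g)) p) := by
        rw [← C.act_mul, mul_inv_cancel_left]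
      rw [h2, hdec' p hp _ hmem']
    have hres : xs.all (fun c => respects O c c (C.enc (v * t)) (l.b :: dec)) = true := by
      refine List.all_eq_true.2 fun c hc => ?_
      obtain ⟨x, rfl, hx⟩ := hg c hc
      refine List.all_eq_true.2 fun p hp => ?_
      rw [forceNat_eq]
      by_cases hq : O.act (C.enc x) p ∈ l.b :: dec
      · simp only [Bool.or_eq_true]
        refine Or.inr ?_
        rw [hact p hp, hact _ hq, ← C.act_mul, ← C.act_mul, hx]
        simp
      · simp only [Bool.or_eq_true, Bool.not_eq_true']
        refine Or.inl (List.any_eq_false.2 fun r hr hb => hq ?_)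
        rw [← Nat.eq_of_beq_eq_true hb]
        exact hr
    simp only [commList, List.mem_flatten, List.mem_map]
    refine ⟨_, ⟨e, he, rfl⟩, ?_⟩
    rw [forceNat_eq, ← ht, C.mul_enc, if_pos hres]
    exact ih (gensOK_next C hS h) (chainCheck_cons C hS h).2.2.2.2.2 (v * t) _ hmem' hdec'

end Cfsg.Agent.Lib.Blocks.M24
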