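import Cfsg.Agent.Lib.Blocks.M24.Data
import Cfsg.Agent.Lib.Blocks.M24.CommList
import Cfsg.Agent.Lib.Fusion.SylowCompute

/-! Kernel checks on the class certificates of the Mathieu group on 24 points. -/

set_option autoImplicit false
set_option maxRecDepth 100000

namespace Cfsg.Agent.Lib.Blocks.M24

open Cfsg.Agent.Lib.Compute Cfsg.Agent.Lib.Compute.Mathieu
open Cfsg.Agent.Lib.Fusion (memCode)

/-- The operations. -/
noncomputable abbrev O24 : Ops := permOps 8 24

/-- The given group commutes with the element and contains the stabilizer of the first point in its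
centralizer, and moves that point to every possible place. -/
noncomputable def centCheck (z : ℕ × ℕ) (CG : List (ℕ × ℕ)) (CL : List Lvl) : Bool :=
  (z :: CG).all (pairCheck 8 24 m24Chain) &&
    chainCheck O24 CG CL &&
    (CG.all fun a => Nat.beq (mulP 8 24 a.1 z.1) (mulP 8 24 z.1 a.1)) &&
    !Nat.beq (O24.act z.1 23) 23 &&
    (match CL with
      | [] => false
      | l :: _ => Nat.beq l.b 23 &&
          (List.range 24).all fun i => Nat.beq (O24.act z.1 i) i || (l.orb.find i).isSome) &&
    (transList O24 z.1 z.1 (m24Chain.drop 1) O24.one [23]).all fun c =>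
      forceNat c fun c => sift O24 CL c

/-- The small subgroup is a normal `2`-subgroup of the centralizer containing its centralizer. -/
noncomputable def coreCheck (CG : List (ℕ × ℕ)) (CL : List Lvl) (QG QE : List (ℕ × ℕ)) : Bool :=
  QE.all (pairCheck 8 24 CL) &&
    memCode O24.one (QE.map Prod.fst) &&
    (QE.all fun a => QE.all fun b =>
      forceNat (mulP 8 24 a.1 b.1) fun c => memCode c (QE.map Prod.fst)) &&
    (CG.all fun a => QE.all fun b => forceNat (mulP 8 24 a.1 b.1) fun d =>
      forceNat (mulP 8 24 d a.2) fun c => memCode c (QE.map Prod.fst)) &&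
    (QE.all fun a => forceNat (mulP 8 24 a.1 a.1) fun c => forceNat (mulP 8 24 c c) fun d =>
      Nat.beq (mulP 8 24 d d) O24.one) &&
    (QG.all fun a => memCode a.1 (QE.map Prod.fst)) &&
    (commList O24 (QG.map Prod.fst) CL O24.one []).all fun c => memCode c (QE.map Prod.fst)

theorem invA_cent : centCheck invA invACentGens invACentChain = true := by decide +kernel

theorem invB_cent : centCheck invB invBCentGens invBCentChain = true := by decide +kernel

theorem invA_core : coreCheck invACentGens invACentChain invAQGens invAQEls = true := by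
  decide +kernel

theorem invB_core : coreCheck invBCentGens invBCentChain invBQGens invBQEls = true := by
  decide +kernel

theorem inv_pairs : (invAConj ++ invBConj).all (pairCheck 8 24 m24Chain) = true := by decide +kernel

theorem inv_order : (Nat.beq (mulP 8 24 invA.1 invA.1) O24.one && !Nat.beq invA.1 O24.one &&
    Nat.beq (mulP 8 24 invB.1 invB.1) O24.one && !Nat.beq invB.1 O24.one) = true := by decide +kernel

/-- The involutions of the Sylow subgroup are conjugate to one of the two. -/
theorem inv_fused : ((elems O24 Fusion.Mathieu.m24SylChain).all fun c => forceNat c fun c =>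
    Nat.beq c O24.one || !Nat.beq (mulP 8 24 c c) O24.one ||
      (invAConj.any fun g => Nat.beq (mulP 8 24 g.1 invA.1) (mulP 8 24 c g.1)) ||
      invBConj.any fun g => Nat.beq (mulP 8 24 g.1 invB.1) (mulP 8 24 c g.1)) = true := by
  decide +kernel

/-- Powers of a code. -/
noncomputable def codePow (c : ℕ) : ℕ → ℕ
  | 0 => O24.one
  | k + 1 => mulP 8 24 c (codePow c k)

/-- An element of order `q` conjugate to its square, with centralizer of order `n`. -/
noncomputable def elCheck (x t : ℕ × ℕ) (CG : List (ℕ × ℕ)) (CL : List Lvl) (q n : ℕ) : Bool :=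
  (x :: t :: CG).all (pairCheck 8 24 m24Chain) && chainCheck O24 CG CL &&
    Nat.beq (chainSize CL) n &&
    (CG.all fun a => Nat.beq (mulP 8 24 a.1 x.1) (mulP 8 24 x.1 a.1)) &&
    Nat.beq (codePow x.1 q) O24.one && !Nat.beq x.1 O24.one &&
    Nat.beq (mulP 8 24 t.1 x.1) (mulP 8 24 (mulP 8 24 x.1 x.1) t.1) &&
    Nat.ble (transList O24 x.1 x.1 m24Chain O24.one []).length n

theorem el5_ok : elCheck el5 el5Pow el5CentGens el5CentChain 5 60 = true := by decide +kernel

theorem el7_ok : elCheck el7 el7Pow el7CentGens el7CentChain 7 42 = true := by decide +kernel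

theorem el11_ok : elCheck el11 el11Pow el11CentGens el11CentChain 11 11 = true := by decide +kernel

theorem el23_ok : elCheck el23 el23Pow el23CentGens el23CentChain 23 23 = true := by decide +kernel

theorem el7_inv : (transList O24 el7.1 el7.2 m24Chain O24.one []).isEmpty = true := by
  decide +kernel

theorem el23_inv : (transList O24 el23.1 el23.2 m24Chain O24.one []).isEmpty = true := by
  decide +kernel

end Cfsg.Agent.Lib.Blocks.M24
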